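import Mathlib
import Groth.Prelude.Def_GrSyz
import Groth.Prelude.Def_CohB1
import Groth.Agent.H54.HilbertMult

/-!
# Bridge between the `ℤ`-indexed standard grading `GrSyz.stdGr` and `CohB1.polyGrading`,
and between the two forms of the Hilbert function of a graded quotient.
-/

set_option autoImplicit false

namespace Groth.Agent.H81.HilbDeg

universe u

open Module

section Bridge

variable (K : Type u) [Field K] (σ : Type)

theorem weight_one_int (d : σ →₀ ℕ) :
    Finsupp.weight (fun _ : σ => (1 : ℤ)) d = ((Finsupp.weight (fun _ : σ => (1 : ℕ)) d : ℕ) : ℤ) := by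
  rw [Finsupp.weight_apply, Finsupp.weight_apply, Finsupp.sum, Finsupp.sum]
  push_cast
  simp

theorem stdGr_natCast_eq (j : ℕ) :
    GrSyz.stdGr K σ (j : ℤ) = MvPolynomial.homogeneousSubmodule σ K j := by
  ext p
  rw [GrSyz.mem_stdGr_iff, MvPolynomial.mem_homogeneousSubmodule]
  unfold MvPolynomial.IsHomogeneous MvPolynomial.IsWeightedHomogeneous
  constructor
  · intro h d hd
    have := h hd
    rw [weight_one_int] at this
    exact_mod_cast this
  · intro h d hd
    have := h hd
    rw [weight_one_int]
    exact_mod_cast this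

theorem weightedHomogeneousComponent_int_eq (j : ℕ) (f : MvPolynomial σ K) :
    MvPolynomial.weightedHomogeneousComponent (fun _ : σ => (1 : ℤ)) (j : ℤ) f =
      MvPolynomial.homogeneousComponent j f := by
  classical
  ext d
  rw [MvPolynomial.coeff_weightedHomogeneousComponent, MvPolynomial.coeff_homogeneousComponent]
  rw [weight_one_int]
  have : Finsupp.weight (fun _ : σ => (1 : ℕ)) d = d.degree := by
    rw [Finsupp.degree_eq_weight_one]
  rw [this]
  by_cases h : d.degree = j
  · rw [if_pos (by exact_mod_cast h), if_pos h]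
  · rw [if_neg (by exact_mod_cast h), if_neg h]

end Bridge

section Poly

variable (K : Type u) [Field K] (n : ℕ)

local notation "𝒜" => CohB1.polyGrading n K
local notation "R" => MvPolynomial (Fin (n + 1)) K

theorem isHomogeneous_polyGrading_of_stdGr (I : Ideal R)
    (h : I.IsHomogeneous (GrSyz.stdGr K (Fin (n + 1)))) : I.IsHomogeneous 𝒜 := by
  intro i x hx
  have h0 : MvPolynomial.weightedHomogeneousComponent (fun _ : Fin (n + 1) => (1 : ℤ)) (i : ℤ) x ∈ I :=
    MvPolynomial.weightedHomogeneousComponent_mem_of_mem K (fun _ : Fin (n + 1) => (1 : ℤ)) h hx i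
  rw [weightedHomogeneousComponent_int_eq] at h0
  have : (DirectSum.decompose 𝒜 x i : R) = MvPolynomial.homogeneousComponent i x := by
    exact MvPolynomial.decomposition.decompose'_apply x i
  rw [this]
  exact h0

end Poly

end Groth.Agent.H81.HilbDeg
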