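import Mathlib
import Groth.Agent.H81.HilbDeg.Bridge

/-!
# Hilbert polynomials of homogeneous ideals of `k[x_0, …, x_n]` (canonical choice)
-/

set_option autoImplicit false

namespace Groth.Agent.H81.HilbDeg

universe u

open Module Polynomial Groth.Agent.H54

section

variable (K : Type u) [Field K] (n : ℕ)

local notation "𝒜" => CohB1.polyGrading n K
local notation "R" => MvPolynomial (Fin (n + 1)) K

/-- the dimension of the image of the degree `j` piece in `R/𝔞` is the Hilbert function. -/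
theorem finrank_map_mk_eq_hilbFn (𝔞 : Ideal R) (j : ℕ) :
    finrank K ↥(Submodule.map (Ideal.Quotient.mkₐ K 𝔞).toLinearMap
      (GrSyz.stdGr K (Fin (n + 1)) (j : ℤ))) = hilbFn K n 𝔞 j := by
  rw [stdGr_natCast_eq]
  set f : R →ₗ[K] (R ⧸ 𝔞) := (Ideal.Quotient.mkₐ K 𝔞).toLinearMap with hf
  have hker : LinearMap.ker f = 𝔞.restrictScalars K := by
    ext x
    rw [LinearMap.mem_ker, Submodule.restrictScalars_mem]
    change Ideal.Quotient.mk 𝔞 x = 0 ↔ _
    exact Ideal.Quotient.eq_zero_iff_mem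
  have h1 := LinearMap.finrank_range_add_finrank_ker (f.domRestrict (𝒜 j))
  rw [LinearMap.range_domRestrict, LinearMap.ker_domRestrict, hker] at h1
  have h2 : Submodule.comap (𝒜 j).subtype (𝔞.restrictScalars K) =
      Submodule.comap (𝒜 j).subtype (𝔞.restrictScalars K ⊓ 𝒜 j) := by
    ext ⟨x, hx⟩
    simp only [Submodule.mem_comap, Submodule.subtype_apply, Submodule.mem_inf]
    exact ⟨fun h => ⟨h, hx⟩, fun h => h.1⟩
  rw [h2, (Submodule.comapSubtypeEquivOfLe (inf_le_right :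
      𝔞.restrictScalars K ⊓ 𝒜 j ≤ 𝒜 j)).finrank_eq] at h1
  have h3 := hilbFn_add K n 𝔞 j
  change finrank K ↥(Submodule.map f (𝒜 j)) = _
  omega

/-- `P` is a Hilbert polynomial of `R/I` (in the form used by `Groth.Agent.H54`). -/
def IsHilbPoly (I : Ideal R) (P : ℚ[X]) : Prop :=
  ∃ m₀ : ℕ, ∀ m : ℕ, m₀ ≤ m → P.eval (m : ℚ) =
    (Module.finrank K ↥(𝒜 m) : ℚ) - Module.finrank K ↥(Submodule.restrictScalars K I ⊓ 𝒜 m)

variable {K n}

theorem isHilbPoly_iff (I : Ideal R) (P : ℚ[X]) :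
    IsHilbPoly K n I P ↔ ∃ m₀ : ℕ, ∀ m : ℕ, m₀ ≤ m → P.eval (m : ℚ) = (hilbFn K n I m : ℚ) := by
  have key : ∀ m : ℕ, (Module.finrank K ↥(𝒜 m) : ℚ) -
      Module.finrank K ↥(Submodule.restrictScalars K I ⊓ 𝒜 m) = (hilbFn K n I m : ℚ) := by
    intro m
    rw [← hilbFn_add K n I m]
    push_cast
    ring
  constructor
  · rintro ⟨m₀, h⟩
    exact ⟨m₀, fun m hm => by rw [h m hm, key]⟩
  · rintro ⟨m₀, h⟩
    exact ⟨m₀, fun m hm => by rw [h m hm, key]⟩

/-- the hypothesis form of the statement gives a Hilbert polynomial. -/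
theorem isHilbPoly_of_map (𝔞 : Ideal R) (P : ℚ[X])
    (h : ∃ j₀ : ℕ, ∀ j : ℕ, j₀ ≤ j → (Module.finrank K ↥(Submodule.map
      (Ideal.Quotient.mkₐ K 𝔞).toLinearMap (GrSyz.stdGr K (Fin (n + 1)) (j : ℤ))) : ℚ) =
        P.eval (j : ℚ)) : IsHilbPoly K n 𝔞 P := by
  rw [isHilbPoly_iff]
  obtain ⟨j₀, h⟩ := h
  exact ⟨j₀, fun m hm => by rw [← h m hm, finrank_map_mk_eq_hilbFn]⟩

theorem IsHilbPoly.unique {I : Ideal R} {P Q : ℚ[X]} (hP : IsHilbPoly K n I P)
    (hQ : IsHilbPoly K n I Q) : P = Q := by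
  rw [isHilbPoly_iff] at hP hQ
  obtain ⟨m₀, h₀⟩ := hP
  obtain ⟨m₁, h₁⟩ := hQ
  have := eq_zero_of_eval_nat_eq_zero (P - Q) (max m₀ m₁) (fun m hm => by
    rw [eval_sub, h₀ m (le_trans (le_max_left _ _) hm), h₁ m (le_trans (le_max_right _ _) hm),
      sub_self])
  exact sub_eq_zero.mp this

theorem isHilbPoly_top : IsHilbPoly K n (⊤ : Ideal R) 0 := by
  rw [isHilbPoly_iff]
  refine ⟨0, fun m _ => ?_⟩
  have : hilbFn K n ⊤ m = 0 := by
    unfold hilbFn
    rw [Submodule.restrictScalars_top, top_inf_eq, Nat.sub_self]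
  rw [this, eval_zero, Nat.cast_zero]

/-- existence of Hilbert polynomials of homogeneous ideals, with the dimension. -/
theorem exists_isHilbPoly (I : Ideal R) (hI : I.IsHomogeneous 𝒜) : ∃ P, IsHilbPoly K n I P := by
  by_cases hne : I = ⊤
  · subst hne
    exact ⟨0, isHilbPoly_top⟩
  obtain ⟨PS, ⟨N, hN⟩, -⟩ := exists_samuel_poly K n I hI hne
  refine ⟨PS.comp (X + 1) - PS, ?_⟩
  rw [isHilbPoly_iff]
  refine ⟨N, fun m hm => ?_⟩
  have h1 := hN m hm
  have h2 := hN (m + 1) (by omega)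
  rw [Finset.sum_range_succ] at h2
  push_cast at h1 h2
  rw [eval_sub, eval_comp, eval_add, eval_X, eval_one, ← h1, ← h2]
  ring

variable (K n) in
/-- the (canonical) Hilbert polynomial of `R/I`, zero if there is none. -/
noncomputable def hilbPoly (I : Ideal R) : ℚ[X] :=
  open Classical in if h : ∃ P, IsHilbPoly K n I P then h.choose else 0

theorem isHilbPoly_hilbPoly (I : Ideal R) (hI : I.IsHomogeneous 𝒜) :
    IsHilbPoly K n I (hilbPoly K n I) := by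
  unfold hilbPoly
  rw [dif_pos (exists_isHilbPoly I hI)]
  exact (exists_isHilbPoly I hI).choose_spec

theorem IsHilbPoly.eq_hilbPoly {I : Ideal R} {P : ℚ[X]} (hP : IsHilbPoly K n I P) :
    P = hilbPoly K n I := by
  unfold hilbPoly
  rw [dif_pos ⟨P, hP⟩]
  exact hP.unique (Exists.choose_spec (⟨P, hP⟩ : ∃ P, IsHilbPoly K n I P))

/-- monotonicity: eventually `P_{K'} ≤ P_K` for `K ≤ K'`. -/
theorem IsHilbPoly.eventually_le {I I' : Ideal R} {P P' : ℚ[X]} (hP : IsHilbPoly K n I P)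
    (hP' : IsHilbPoly K n I' P') (h : I ≤ I') :
    ∃ m₀ : ℕ, ∀ m : ℕ, m₀ ≤ m → P'.eval (m : ℚ) ≤ P.eval (m : ℚ) := by
  rw [isHilbPoly_iff] at hP hP'
  obtain ⟨m₀, h₀⟩ := hP
  obtain ⟨m₁, h₁⟩ := hP'
  refine ⟨max m₀ m₁, fun m hm => ?_⟩
  rw [h₀ m (le_trans (le_max_left _ _) hm), h₁ m (le_trans (le_max_right _ _) hm)]
  exact_mod_cast hilbFn_anti K n h m

/-- if `I ≤ I'` and `P_I = 0` then `P_{I'} = 0`. -/
theorem IsHilbPoly.eq_zero_of_le {I I' : Ideal R} {P' : ℚ[X]} (hP : IsHilbPoly K n I 0)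
    (hP' : IsHilbPoly K n I' P') (h : I ≤ I') : P' = 0 := by
  rw [isHilbPoly_iff] at hP hP'
  obtain ⟨m₀, h₀⟩ := hP
  obtain ⟨m₁, h₁⟩ := hP'
  apply eq_zero_of_eval_nat_eq_zero P' (max m₀ m₁)
  intro m hm
  have e0 := h₀ m (le_trans (le_max_left _ _) hm)
  rw [eval_zero] at e0
  have e1 : hilbFn K n I m = 0 := by exact_mod_cast e0.symm
  have e2 := hilbFn_anti K n h m
  rw [h₁ m (le_trans (le_max_right _ _) hm)]
  have : hilbFn K n I' m = 0 := by omega
  rw [this, Nat.cast_zero]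

end

end Groth.Agent.H81.HilbDeg
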