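import Mathlib
import Groth.Agent.H81.HilbDeg.HilbPoly
import Groth.Agent.H46.CIField

/-!
# Degree of the Hilbert polynomial of a homogeneous prime and its height
-/

set_option autoImplicit false

namespace Groth.Agent.H81.HilbDeg

universe u

open Module Polynomial Groth.Agent.H54

section

variable {K : Type u} [Field K] {n : ℕ}

local notation "𝒜" => CohB1.polyGrading n K
local notation "R" => MvPolynomial (Fin (n + 1)) K

/-- a homogeneous prime with nonzero Hilbert polynomial `P` has height `n - deg P`. -/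
theorem natDegree_add_height (p : Ideal R) [hp : p.IsPrime] (hph : p.IsHomogeneous 𝒜)
    (P : ℚ[X]) (hP : IsHilbPoly K n p P) (hP0 : P ≠ 0) :
    ∃ h : ℕ, p.height = (h : ℕ∞) ∧ P.natDegree + 1 + h = n + 1 := by
  have h1 := ringKrullDim_eq_natDegree_hilbertPoly_add_one K n p hph P hP0 hP
  have h2 := Groth.Agent.H46.CIField.ringKrullDim_quotient_add_height K (n + 1) p
  rw [h1] at h2
  have hfin : p.height ≠ ⊤ := by
    intro htop
    rw [htop] at h2
    have : ((P.natDegree : WithBot ℕ∞) + 1 + ((⊤ : ℕ∞) : WithBot ℕ∞)) = ((⊤ : ℕ∞) : WithBot ℕ∞) := by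
      have : ((P.natDegree : WithBot ℕ∞) + 1) = (((P.natDegree + 1 : ℕ) : ℕ∞) : WithBot ℕ∞) := by
        push_cast; rfl
      rw [this, ← WithBot.coe_add, add_top]
    rw [this] at h2
    have h3 : ((⊤ : ℕ∞) : WithBot ℕ∞) = (((n + 1 : ℕ) : ℕ∞) : WithBot ℕ∞) := by
      rw [h2]; push_cast; rfl
    have h4 := WithBot.coe_injective h3
    exact ENat.top_ne_natCast _ h4
  obtain ⟨h, hh⟩ := ENat.ne_top_iff_exists.mp hfin
  refine ⟨h, hh.symm, ?_⟩
  rw [← hh] at h2
  exact_mod_cast h2

/-- a homogeneous prime with zero Hilbert polynomial has height `n + 1`. -/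
theorem height_eq_of_hilbPoly_eq_zero (p : Ideal R) [hp : p.IsPrime] (hph : p.IsHomogeneous 𝒜)
    (hP : IsHilbPoly K n p 0) : p.height = ((n + 1 : ℕ) : ℕ∞) := by
  obtain ⟨PS, ⟨N, hN⟩, hdeg⟩ := exists_samuel_poly K n p hph hp.ne_top
  rw [isHilbPoly_iff] at hP
  obtain ⟨m₀, hm₀⟩ := hP
  have hdiff : ∀ m : ℕ, max N m₀ ≤ m → PS.eval ((m : ℚ) + 1) - PS.eval (m : ℚ) = 0 := by
    intro m hm
    have h1 := hN m (le_trans (le_max_left _ _) hm)
    have h2 := hN (m + 1) (by have := le_trans (le_max_left _ _) hm; omega)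
    rw [Finset.sum_range_succ] at h2
    have h3 := hm₀ m (le_trans (le_max_right _ _) hm)
    rw [eval_zero] at h3
    push_cast at h1 h2
    rw [← h1, ← h2, ← h3]
    ring
  have h0 := natDegree_eq_zero_of_forward_diff_eq_zero PS _ hdiff
  rw [h0] at hdeg
  have h2 := Groth.Agent.H46.CIField.ringKrullDim_quotient_add_height K (n + 1) p
  rw [← hdeg] at h2
  have h3 : ((p.height : ℕ∞) : WithBot ℕ∞) = (((n + 1 : ℕ) : ℕ∞) : WithBot ℕ∞) := by
    rw [Nat.cast_zero, zero_add] at h2
    rw [h2]; rfl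
  exact WithBot.coe_injective h3

/-- a homogeneous prime of height `c ≤ n` has a nonzero Hilbert polynomial of degree `n - c`. -/
theorem hilbPoly_of_height_eq (p : Ideal R) [hp : p.IsPrime] (hph : p.IsHomogeneous 𝒜)
    (c : ℕ) (hcn : c ≤ n) (hc : p.height = (c : ℕ∞)) (P : ℚ[X]) (hP : IsHilbPoly K n p P) :
    P ≠ 0 ∧ P.natDegree = n - c := by
  have hP0 : P ≠ 0 := by
    rintro rfl
    have := height_eq_of_hilbPoly_eq_zero p hph hP
    rw [hc] at this
    have : c = n + 1 := by exact_mod_cast this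
    omega
  refine ⟨hP0, ?_⟩
  obtain ⟨h, hh, hsum⟩ := natDegree_add_height p hph P hP hP0
  rw [hc] at hh
  have : c = h := by exact_mod_cast hh
  omega

end

end Groth.Agent.H81.HilbDeg
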