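import Mathlib
import Groth.Agent.H81.HilbDeg.PrimeDeg

/-!
# The associativity formula in canonical form, and relative to a fixed set of height `c` primes
-/

set_option autoImplicit false

namespace Groth.Agent.H81.HilbDeg

universe u

open Module Polynomial Groth.Agent.H54

section

variable {K : Type u} [Field K] {n : ℕ}

local notation "𝒜" => CohB1.polyGrading n K
local notation "R" => MvPolynomial (Fin (n + 1)) K

/-- the multiplicity of `R/I` at the prime `p`: the length of `(R/I)_p` over `R_p`
(zero if `p` is not prime or the length is infinite). -/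
noncomputable def mult (I p : Ideal R) : ℕ :=
  open Classical in if h : p.IsPrime then
    haveI := h
    (Module.length (Localization.AtPrime p) (LocalizedModule p.primeCompl (R ⧸ I))).toNat
  else 0

theorem mult_eq (I p : Ideal R) [hp : p.IsPrime] :
    mult I p = (Module.length (Localization.AtPrime p)
      (LocalizedModule p.primeCompl (R ⧸ I))).toNat := by
  unfold mult
  rw [dif_pos hp]

theorem mult_eq_zero_of_not_le (I p : Ideal R) [hp : p.IsPrime] (h : ¬ I ≤ p) : mult I p = 0 := by
  rw [mult_eq, length_localizedModule_quotient_eq_zero p I h]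
  rfl

variable (K n) in
/-- the finite set of minimal primes of an ideal -/
noncomputable def minFinset (I : Ideal R) : Finset (Ideal R) :=
  (Ideal.finite_minimalPrimes_of_isNoetherianRing R I).toFinset

theorem mem_minFinset (I p : Ideal R) : p ∈ minFinset K n I ↔ p ∈ I.minimalPrimes := by
  unfold minFinset
  exact Set.Finite.mem_toFinset _

/-- the associativity formula of `Groth.Agent.H54.degree_eq_sum_mult'` in canonical form. -/
theorem assoc_formula (I : Ideal R) (hI : I.IsHomogeneous 𝒜) (P : ℚ[X])
    (hP : IsHilbPoly K n I P) :
    (P.natDegree.factorial : ℚ) * P.leadingCoeff =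
      ∑ p ∈ minFinset K n I, if (hilbPoly K n p).natDegree = P.natDegree then
        ((hilbPoly K n p).natDegree.factorial : ℚ) * (hilbPoly K n p).leadingCoeff * mult I p
      else 0 := by
  classical
  set s := minFinset K n I with hs
  let e := s.equivFin
  let p : Fin s.card → Ideal R := fun i => (e.symm i).1
  have hpmem : ∀ i, p i ∈ I.minimalPrimes := fun i => (mem_minFinset I _).mp (e.symm i).2
  haveI hp : ∀ i, (p i).IsPrime := fun i => (hpmem i).1.1
  have hpinj : Function.Injective p := by
    intro i j hij
    have : e.symm i = e.symm j := Subtype.ext hij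
    exact e.symm.injective this
  have hpmin : ∀ q : Ideal R, q ∈ I.minimalPrimes ↔ ∃ i, q = p i := by
    intro q
    constructor
    · intro hq
      refine ⟨e ⟨q, (mem_minFinset I q).mpr hq⟩, ?_⟩
      change q = (e.symm (e ⟨q, _⟩)).1
      rw [Equiv.symm_apply_apply]
    · rintro ⟨i, rfl⟩
      exact hpmem i
  have hQp : ∀ i, IsHilbPoly K n (p i) (hilbPoly K n (p i)) := fun i =>
    isHilbPoly_hilbPoly (p i) (isHomogeneous_of_mem_minimalPrimes 𝒜 hI (hpmem i))
  have key := degree_eq_sum_mult' K n I hI P hP s.card p hpinj hpmin
    (fun i => hilbPoly K n (p i)) hQp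
  rw [key]
  -- reindex
  have : ∀ i : Fin s.card, (if (hilbPoly K n (p i)).natDegree = P.natDegree then
        ((hilbPoly K n (p i)).natDegree.factorial : ℚ) * (hilbPoly K n (p i)).leadingCoeff *
          ((Module.length (Localization.AtPrime (p i))
            (LocalizedModule (p i).primeCompl (R ⧸ I))).toNat : ℚ)
      else 0) =
      (fun q : Ideal R => if (hilbPoly K n q).natDegree = P.natDegree then
        ((hilbPoly K n q).natDegree.factorial : ℚ) * (hilbPoly K n q).leadingCoeff * mult I q
      else 0) (p i) := by
    intro i
    simp only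
    rw [mult_eq]
  rw [Finset.sum_congr rfl (fun i _ => this i)]
  rw [← Finset.sum_coe_sort s]
  exact (Equiv.sum_comp e.symm (fun x : s => (fun q : Ideal R =>
    if (hilbPoly K n q).natDegree = P.natDegree then
        ((hilbPoly K n q).natDegree.factorial : ℚ) * (hilbPoly K n q).leadingCoeff * mult I q
      else 0) x.1))

end

end Groth.Agent.H81.HilbDeg
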