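import Mathlib

/-!
# Colons of homogeneous ideals are homogeneous
-/

set_option autoImplicit false

namespace Groth.Agent.H81.HilbDeg

open DirectSum

variable {ι σ A : Type*} [CommRing A] [DecidableEq ι] [AddCancelCommMonoid ι]
  [SetLike σ A] [AddSubgroupClass σ A] (𝒜 : ι → σ) [GradedRing 𝒜]

/-- the colon of two homogeneous ideals is homogeneous -/
theorem isHomogeneous_colon (N I : Ideal A) (hN : N.IsHomogeneous 𝒜) (hI : I.IsHomogeneous 𝒜) :
    (N.colon (I : Set A)).IsHomogeneous 𝒜 := by
  classical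
  intro i x hx
  rw [Submodule.mem_colon]
  intro y hy
  rw [smul_eq_mul, ← DirectSum.sum_support_decompose 𝒜 y, Finset.mul_sum]
  apply Ideal.sum_mem
  intro j _
  have hyj : (decompose 𝒜 y j : A) ∈ I := hI j hy
  have hmem : (decompose 𝒜 y j : A) ∈ 𝒜 j := SetLike.coe_mem _
  have hxy : x * (decompose 𝒜 y j : A) ∈ N := by
    have := (Submodule.mem_colon.mp hx) _ hyj
    rwa [smul_eq_mul] at this
  have := hN (i + j) hxy
  rwa [DirectSum.coe_decompose_mul_add_of_right_mem 𝒜 hmem] at this

end Groth.Agent.H81.HilbDeg
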