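import Mathlib
import Groth.Prelude.Def_CAlg
import Groth.Prelude.Def_Wider
import Groth.Agent.H81.LiaisonDual
import Groth.Agent.H2.MatlisLength

/-!
# Lengths of linked ideals in an Artinian Gorenstein local ring

* `colon_map_eq_map_colon`: colons by finitely generated ideals commute with localization.
* `length_quotient_add_length_quotient_annihilator`: in a zero-dimensional Gorenstein local ring
  `A`, `ℓ(A/𝔟) + ℓ(A/(0 : 𝔟)) = ℓ(A)`.
* `length_quotient_add_length_quotient_colon`: the same for `S/𝔠'` Gorenstein of dimension zero: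
  `ℓ(S/I') + ℓ(S/(𝔠' : I')) = ℓ(S/𝔠')`.
-/

set_option autoImplicit false

namespace Groth.Agent.H81.HilbDeg

universe u

open IsLocalRing

section ColonLoc

variable {B : Type u} [CommRing B] (M : Submonoid B) (A : Type u) [CommRing A] [Algebra B A]

/-- colons by finitely generated ideals commute with localization -/
theorem colon_map_eq_map_colon [IsLocalization M A] (N 𝔟 : Ideal B) (hfg : 𝔟.FG) :
    (N.map (algebraMap B A)).colon ((𝔟.map (algebraMap B A) : Ideal A) : Set A) =
      (N.colon (𝔟 : Set B)).map (algebraMap B A) := by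
  apply le_antisymm
  · intro β hβ
    obtain ⟨⟨b, s⟩, hbs⟩ := IsLocalization.surj M β
    obtain ⟨t, ht⟩ := hfg
    have hkill : ∀ i ∈ t, ∃ m : M, (m : B) * (b * i) ∈ N := by
      intro i hi
      have hi' : algebraMap B A i ∈ 𝔟.map (algebraMap B A) :=
        Ideal.mem_map_of_mem _ (ht ▸ Submodule.subset_span hi)
      have h1 := (Submodule.mem_colon.mp hβ) _ hi'
      rw [smul_eq_mul] at h1
      have h2 : algebraMap B A (b * i) ∈ N.map (algebraMap B A) := by
        rw [map_mul, ← hbs, mul_assoc, mul_comm (algebraMap B A s), ← mul_assoc]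
        exact Ideal.mul_mem_right _ _ h1
      obtain ⟨m, hm⟩ := (IsLocalization.algebraMap_mem_map_algebraMap_iff M A _ _).mp h2
      exact ⟨⟨m, hm.1⟩, hm.2⟩
    choose! m hm using hkill
    classical
    let μ : M := ∏ i ∈ t, m i
    have hμ : ∀ i ∈ t, (μ : B) * (b * i) ∈ N := by
      intro i hi
      have : (μ : B) = (∏ j ∈ t.erase i, (m j : B)) * (m i : B) := by
        simp only [μ, Submonoid.coe_finsetProd]
        rw [Finset.prod_erase_mul _ _ hi]
      rw [this, mul_assoc]
      exact Ideal.mul_mem_left _ _ (hm i hi)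
    have hμb : (μ : B) * b ∈ N.colon (𝔟 : Set B) := by
      rw [Submodule.mem_colon]
      intro p hp
      rw [SetLike.mem_coe, ← ht] at hp
      refine Submodule.span_induction (p := fun p _ => ((μ : B) * b) • p ∈ N) ?_ ?_ ?_ ?_ hp
      · intro i hi
        rw [smul_eq_mul, mul_assoc]
        exact hμ i hi
      · simp
      · intro x y _ _ hx hy
        rw [smul_add]
        exact add_mem hx hy
      · intro c x _ hx
        rw [smul_comm]
        exact Ideal.mul_mem_left _ _ hx
    have hunit : IsUnit (algebraMap B A ((μ : B) * s)) := by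
      rw [map_mul]
      exact (IsLocalization.map_units A μ).mul (IsLocalization.map_units A s)
    have : β * algebraMap B A ((μ : B) * s) ∈ (N.colon (𝔟 : Set B)).map (algebraMap B A) := by
      have h1 : β * algebraMap B A ((μ : B) * s) = algebraMap B A ((μ : B) * b) := by
        rw [map_mul, map_mul, ← hbs]
        ring
      rw [h1]
      exact Ideal.mem_map_of_mem _ hμb
    exact (Ideal.mul_unit_mem_iff_mem _ hunit).mp this
  · rw [Ideal.map_le_iff_le_comap]
    intro y hy
    rw [Ideal.mem_comap, Submodule.mem_colon]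
    intro z hz
    refine Submodule.span_induction
      (p := fun z _ => algebraMap B A y • z ∈ N.map (algebraMap B A)) ?_ ?_ ?_ ?_ hz
    · rintro _ ⟨i, hi, rfl⟩
      rw [smul_eq_mul, ← map_mul]
      have := (Submodule.mem_colon.mp hy) i hi
      rw [smul_eq_mul] at this
      exact Ideal.mem_map_of_mem _ this
    · simp
    · intro x z _ _ hx hz
      rw [smul_add]
      exact add_mem hx hz
    · intro c x _ hx
      rw [smul_comm]
      exact Ideal.mul_mem_left _ _ hx

end ColonLoc

section ArtinGor

variable {A : Type u} [CommRing A] [IsLocalRing A]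

/-- if `𝔪^k x = 0` and `x ≠ 0`, some multiple of `x` is a nonzero socle element -/
theorem exists_socle_mul (k : ℕ) : ∀ x : A, x ≠ 0 → (∀ s ∈ maximalIdeal A ^ k, s * x = 0) →
    ∃ r : A, r * x ≠ 0 ∧ ∀ y ∈ maximalIdeal A, y * (r * x) = 0 := by
  induction k with
  | zero =>
    intro x hx h
    exact absurd (by simpa using h 1 (by simp)) hx
  | succ k ih =>
    intro x hx h
    by_cases hs : ∀ y ∈ maximalIdeal A, y * x = 0
    · exact ⟨1, by simpa using hx, by simpa using hs⟩
    · push Not at hs
      obtain ⟨y, hy, hyx⟩ := hs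
      obtain ⟨r, hr, hr'⟩ := ih (y * x) hyx (fun s hs => by
        rw [← mul_assoc]
        exact h (s * y) (by rw [pow_succ]; exact Ideal.mul_mem_mul hs hy))
      exact ⟨r * y, by rwa [mul_assoc], by simpa [mul_assoc] using hr'⟩

variable (a : A) (ha : ∀ y ∈ maximalIdeal A, y * a = 0)

/-- the map `κ → A`, `1 ↦ a`, for a socle element `a` -/
noncomputable def socleMap : ResidueField A →ₗ[A] A :=
  Submodule.liftQ (maximalIdeal A) (LinearMap.toSpanSingleton A A a) (by
    intro r hr
    rw [LinearMap.mem_ker, LinearMap.toSpanSingleton_apply, smul_eq_mul]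
    exact ha r hr)

theorem socleMap_mk (r : A) : socleMap a ha (IsLocalRing.residue A r) = r * a := by
  change Submodule.liftQ _ _ _ (Submodule.Quotient.mk r) = _
  rw [Submodule.liftQ_apply, LinearMap.toSpanSingleton_apply, smul_eq_mul]

/-- a self-injective local ring with nilpotent maximal ideal and a nonzero socle element is an
injective hull of its residue field -/
theorem isInjectiveHull_socleMap [Module.Injective A A] (ha0 : a ≠ 0) (k : ℕ)
    (hk : maximalIdeal A ^ k = ⊥) : InjHull.IsInjectiveHull (socleMap a ha) := by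
  refine ⟨⟨?_, ?_⟩, inferInstance⟩
  · rw [← LinearMap.ker_eq_bot]
    apply Submodule.ker_liftQ_eq_bot
    intro r hr
    rw [LinearMap.mem_ker, LinearMap.toSpanSingleton_apply, smul_eq_mul] at hr
    by_contra hrm
    have hu : IsUnit r := by
      by_contra hnu
      exact hrm ((IsLocalRing.mem_maximalIdeal r).mpr hnu)
    exact ha0 ((hu.mul_right_eq_zero).mp hr)
  · intro N hN
    obtain ⟨x, hxN, hx0⟩ := (Submodule.ne_bot_iff N).mp hN
    obtain ⟨r, hr0, hr⟩ := exists_socle_mul k x hx0 (fun s hs => by
      rw [hk] at hs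
      rw [(Submodule.mem_bot A).mp hs, zero_mul])
    -- `r * x` is a socle element, hence a multiple of `a`
    have hmem : r * x ∈ Ideal.span {a} := by
      apply Groth.Agent.H81.LiaisonDual.annihilator_annihilator_le_of_injective a ha0 ha
      rw [Submodule.mem_annihilator]
      intro z hz
      have hza : z * a = 0 := by
        have := (Submodule.mem_annihilator.mp hz) a (Ideal.subset_span rfl)
        rwa [smul_eq_mul] at this
      have hzm : z ∈ maximalIdeal A := by
        rw [IsLocalRing.mem_maximalIdeal]
        intro hu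
        exact ha0 ((hu.mul_right_eq_zero).mp hza)
      rw [smul_eq_mul, mul_comm]
      exact hr z hzm
    obtain ⟨c, hc⟩ := Ideal.mem_span_singleton'.mp hmem
    intro hbot
    have : r * x ∈ N ⊓ LinearMap.range (socleMap a ha) := by
      refine ⟨N.smul_mem r hxN, ⟨IsLocalRing.residue A c, ?_⟩⟩
      rw [socleMap_mk, hc]
    rw [hbot] at this
    exact hr0 ((Submodule.mem_bot A).mp this)

end ArtinGor

end Groth.Agent.H81.HilbDeg
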