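import Mathlib
import Groth.Agent.H81.HilbDeg.LocalDual

/-!
# Lengths of linked ideals in an Artinian Gorenstein local ring (continued)
-/

set_option autoImplicit false

namespace Groth.Agent.H81.HilbDeg

universe u

open IsLocalRing

section Hom

variable {A : Type u} [CommRing A]

theorem apply_one_mem_annihilator (𝔟 : Ideal A) (φ : (A ⧸ 𝔟) →ₗ[A] A) :
    φ (Submodule.Quotient.mk 1) ∈ (Submodule.annihilator 𝔟 : Ideal A) := by
  rw [Submodule.mem_annihilator]
  intro p hp
  rw [smul_eq_mul, mul_comm, ← smul_eq_mul, ← map_smul, ← Submodule.Quotient.mk_smul,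
    smul_eq_mul, mul_one, (Submodule.Quotient.mk_eq_zero 𝔟).mpr hp, map_zero]

/-- `Hom_A(A/𝔟, A) ≃ (0 : 𝔟)` -/
noncomputable def homQuotEquivAnnihilator (𝔟 : Ideal A) :
    ((A ⧸ 𝔟) →ₗ[A] A) ≃ₗ[A] ↥(Submodule.annihilator 𝔟 : Ideal A) :=
  LinearEquiv.ofBijective
    ((LinearMap.applyₗ (Submodule.Quotient.mk 1 : A ⧸ 𝔟)).codRestrict
      (Submodule.annihilator 𝔟 : Ideal A) (fun φ => apply_one_mem_annihilator 𝔟 φ))
    (by
      constructor
      · intro ψ₁ ψ₂ h
        have h1 : ψ₁ (Submodule.Quotient.mk 1) = ψ₂ (Submodule.Quotient.mk 1) :=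
          congrArg Subtype.val h
        ext
        simpa using h1
      · rintro ⟨x, hx⟩
        have hker : 𝔟 ≤ LinearMap.ker (LinearMap.toSpanSingleton A A x) := by
          intro r hr
          rw [LinearMap.mem_ker, LinearMap.toSpanSingleton_apply, smul_eq_mul, mul_comm]
          have := (Submodule.mem_annihilator.mp hx) r hr
          rwa [smul_eq_mul] at this
        refine ⟨Submodule.liftQ 𝔟 (LinearMap.toSpanSingleton A A x) hker, Subtype.ext ?_⟩
        change Submodule.liftQ 𝔟 (LinearMap.toSpanSingleton A A x) hker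
          (Submodule.Quotient.mk 1) = x
        rw [Submodule.liftQ_apply, LinearMap.toSpanSingleton_apply, one_smul])

end Hom

section L1

/-- in a zero-dimensional Gorenstein local ring, `ℓ(A/𝔟) + ℓ(A/(0 : 𝔟)) = ℓ(A)`. -/
theorem length_quotient_add_length_quotient_annihilator (A : Type u) [CommRing A]
    [hA : LocCoh.IsGorensteinLocalRing A] (hdim : ringKrullDim A = 0) (𝔟 : Ideal A) :
    Module.length A (A ⧸ 𝔟) + Module.length A (A ⧸ (Submodule.annihilator 𝔟 : Ideal A)) =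
      Module.length A A := by
  haveI : IsLocalRing A := hA.toIsLocalRing
  haveI : IsNoetherianRing A := hA.toIsNoetherian
  obtain ⟨a, ha0, ha, hinj⟩ := Groth.Agent.H81.LiaisonDual.exists_socle_and_injective A hdim
  haveI := hinj
  haveI hart : IsArtinianRing A := by
    rw [isArtinianRing_iff_isNoetherianRing_krullDimLE_zero]
    refine ⟨inferInstance, ?_⟩
    rw [Ring.krullDimLE_iff, hdim]
    rfl
  obtain ⟨k, hk⟩ : ∃ k : ℕ, maximalIdeal A ^ k = ⊥ := by
    have h1 := IsArtinianRing.isNilpotent_jacobson_bot (R := A)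
    rw [IsLocalRing.jacobson_eq_maximalIdeal ⊥ bot_ne_top] at h1
    obtain ⟨k, hk⟩ := h1
    exact ⟨k, hk⟩
  have hull := isInjectiveHull_socleMap a ha ha0 k hk
  have hfin : IsFiniteLength A (A ⧸ 𝔟) :=
    isFiniteLength_iff_isNoetherian_isArtinian.mpr ⟨inferInstance, inferInstance⟩
  have h1 : Module.length A ↥(Submodule.annihilator 𝔟 : Ideal A) = Module.length A (A ⧸ 𝔟) := by
    rw [← (homQuotEquivAnnihilator 𝔟).length_eq]
    exact Groth.Agent.H2.MatlisLength.length_dual_eq (socleMap a ha) hull hfin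
  have h2 := Module.length_eq_add_of_exact
    (Submodule.subtype (Submodule.annihilator 𝔟 : Ideal A))
    (Submodule.mkQ (Submodule.annihilator 𝔟 : Ideal A))
    (Submodule.subtype_injective _) (Submodule.mkQ_surjective _)
    (LinearMap.exact_subtype_mkQ _)
  rw [h2, h1]

end L1

section Transfer

variable {S : Type u} [CommRing S]

/-- lengths of cyclic modules can be computed over a quotient ring -/
theorem length_quotient_eq_length_quotient_map (𝔠' 𝔞 : Ideal S) (h : 𝔠' ≤ 𝔞) :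
    Module.length S (S ⧸ 𝔞) =
      Module.length (S ⧸ 𝔠') ((S ⧸ 𝔠') ⧸ 𝔞.map (Ideal.Quotient.mk 𝔠')) := by
  rw [Module.length_eq_of_surjective (S := S) (R := S ⧸ 𝔞) (M := S ⧸ 𝔞)
      Ideal.Quotient.mk_surjective,
    Module.length_eq_of_surjective (S := S ⧸ 𝔠') (R := (S ⧸ 𝔠') ⧸ 𝔞.map (Ideal.Quotient.mk 𝔠'))
      (M := (S ⧸ 𝔠') ⧸ 𝔞.map (Ideal.Quotient.mk 𝔠')) Ideal.Quotient.mk_surjective]
  let ρ : ((S ⧸ 𝔠') ⧸ 𝔞.map (Ideal.Quotient.mk 𝔠')) ≃+* (S ⧸ 𝔞) :=
    DoubleQuot.quotQuotEquivQuotOfLE h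
  rw [Module.length, Module.length, WithBot.unbot_inj]
  exact Order.krullDim_eq_of_orderIso ρ.idealComapOrderIso

/-- **lengths of linked ideals**: if `S/𝔠'` is a Gorenstein local ring of dimension zero and
`𝔠' ≤ I'`, then `ℓ(S/I') + ℓ(S/(𝔠' : I')) = ℓ(S/𝔠')`. -/
theorem length_quotient_add_length_quotient_colon [IsNoetherianRing S] (𝔠' I' : Ideal S)
    [hG : LocCoh.IsGorensteinLocalRing (S ⧸ 𝔠')] (hdim : ringKrullDim (S ⧸ 𝔠') = 0)
    (h : 𝔠' ≤ I') :
    Module.length S (S ⧸ I') + Module.length S (S ⧸ 𝔠'.colon (I' : Set S)) =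
      Module.length S (S ⧸ 𝔠') := by
  have hcol : 𝔠' ≤ 𝔠'.colon (I' : Set S) := Ideal.le_colon
  rw [length_quotient_eq_length_quotient_map 𝔠' I' h,
    length_quotient_eq_length_quotient_map 𝔠' _ hcol,
    Module.length_eq_of_surjective (S := S) (R := S ⧸ 𝔠') (M := S ⧸ 𝔠')
      Ideal.Quotient.mk_surjective]
  have hmap : (𝔠'.colon (I' : Set S)).map (Ideal.Quotient.mk 𝔠') =
      (Submodule.annihilator (I'.map (Ideal.Quotient.mk 𝔠')) : Ideal (S ⧸ 𝔠')) := by
    ext y
    obtain ⟨x, rfl⟩ := Ideal.Quotient.mk_surjective y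
    rw [← Groth.Agent.H81.LiaisonDual.mem_colon_iff_mk_mem_annihilator]
    constructor
    · intro hy
      obtain ⟨x', hx', hxx'⟩ :=
        (Ideal.mem_map_iff_of_surjective _ Ideal.Quotient.mk_surjective).mp hy
      rw [Groth.Agent.H81.LiaisonDual.mem_colon_iff_mk_mem_annihilator, ← hxx',
        ← Groth.Agent.H81.LiaisonDual.mem_colon_iff_mk_mem_annihilator]
      exact hx'
    · intro hx
      exact Ideal.mem_map_of_mem _ hx
  rw [hmap]
  exact length_quotient_add_length_quotient_annihilator (S ⧸ 𝔠') hdim _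

end Transfer

end Groth.Agent.H81.HilbDeg
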