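import Mathlib
import Groth.Agent.H81.HilbDeg.LocalLength
import Groth.Agent.H81.HilbDeg.Assoc
import Groth.Agent.H81.GeomLinkPoly
import Groth.Agent.H81.LiaisonCM
import Groth.Agent.H81.LiaisonGor

/-!
# Additivity of multiplicities of linked ideals at the minimal primes of the linking ideal
-/

set_option autoImplicit false

namespace Groth.Agent.H81.HilbDeg

universe u

open IsLocalRing

section General

variable {R : Type u} [CommRing R] [IsNoetherianRing R]

/-- at a minimal prime `q` of `𝔠` with `R/𝔠` Gorenstein and `𝔠 ≤ I`: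
`ℓ((R/I)_q) + ℓ((R/(𝔠 : I))_q) = ℓ((R/𝔠)_q) < ∞`. -/
theorem length_localized_add (𝔠 I : Ideal R) [hG : LocCoh.IsGorensteinRing (R ⧸ 𝔠)]
    (h𝔠I : 𝔠 ≤ I) (q : Ideal R) [hqp : q.IsPrime] (hq : q ∈ 𝔠.minimalPrimes) :
    Module.length (Localization.AtPrime q) (LocalizedModule q.primeCompl (R ⧸ I)) +
      Module.length (Localization.AtPrime q)
        (LocalizedModule q.primeCompl (R ⧸ 𝔠.colon (I : Set R))) =
      Module.length (Localization.AtPrime q) (LocalizedModule q.primeCompl (R ⧸ 𝔠)) ∧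
    Module.length (Localization.AtPrime q) (LocalizedModule q.primeCompl (R ⧸ 𝔠)) ≠ ⊤ := by
  set S := Localization.AtPrime q with hS
  rw [Groth.Agent.H54.length_localizedModule_quotient q I,
    Groth.Agent.H54.length_localizedModule_quotient q (𝔠.colon (I : Set R)),
    Groth.Agent.H54.length_localizedModule_quotient q 𝔠]
  set 𝔠' : Ideal S := 𝔠.map (algebraMap R S) with h𝔠'
  set I' : Ideal S := I.map (algebraMap R S) with hI'
  have hcol : (𝔠.colon (I : Set R)).map (algebraMap R S) = 𝔠'.colon (I' : Set S) :=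
    (colon_map_eq_map_colon q.primeCompl S 𝔠 I (IsNoetherian.noetherian I)).symm
  rw [hcol]
  have hle : 𝔠' ≤ I' := Ideal.map_mono h𝔠I
  -- Gorenstein
  have h𝔠q : 𝔠 ≤ q := hq.1.2
  set Q : Ideal (R ⧸ 𝔠) := q.map (Ideal.Quotient.mk 𝔠) with hQ
  have hker : RingHom.ker (Ideal.Quotient.mk 𝔠) ≤ q := by rw [Ideal.mk_ker]; exact h𝔠q
  haveI hQp : Q.IsPrime := Ideal.map_isPrime_of_surjective Ideal.Quotient.mk_surjective hker
  have hQc : Q.comap (Ideal.Quotient.mk 𝔠) = q := by
    rw [hQ, Ideal.comap_map_of_surjective' _ Ideal.Quotient.mk_surjective, sup_eq_left]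
    exact hker
  obtain ⟨e⟩ := Groth.Agent.H81.LiaisonCM.nonempty_ringEquiv_localization_quotient R 𝔠 q Q hQc
  haveI hGl : LocCoh.IsGorensteinLocalRing (S ⧸ 𝔠') :=
    Groth.Agent.H81.LiaisonGor.isGorensteinLocalRing_of_ringEquiv e
      (hG.isGorensteinLocalRing_localization Q)
  -- dimension zero
  have hmin : maximalIdeal S ∈ 𝔠'.minimalPrimes := by
    rw [h𝔠', IsLocalization.minimalPrimes_map q.primeCompl S 𝔠, Set.mem_preimage,
      IsLocalization.AtPrime.under_maximalIdeal S q]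
    exact hq
  have hdim : ringKrullDim (S ⧸ 𝔠') = 0 :=
    Groth.Agent.H81.GeomLinkPoly.ringKrullDim_quotient_eq_zero_of_maximalIdeal_mem_minimalPrimes
      𝔠' hmin
  refine ⟨length_quotient_add_length_quotient_colon 𝔠' I' hdim hle, ?_⟩
  rw [Module.length_eq_of_surjective (S := S) (R := S ⧸ 𝔠') (M := S ⧸ 𝔠')
      Ideal.Quotient.mk_surjective, Module.length_ne_top_iff]
  haveI : IsNoetherianRing (S ⧸ 𝔠') := hGl.toIsNoetherian
  haveI hart : IsArtinianRing (S ⧸ 𝔠') := by
    rw [isArtinianRing_iff_isNoetherianRing_krullDimLE_zero]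
    refine ⟨inferInstance, ?_⟩
    rw [Ring.krullDimLE_iff, hdim]
    rfl
  exact isFiniteLength_iff_isNoetherian_isArtinian.mpr ⟨inferInstance, inferInstance⟩

end General

section Poly

variable {K : Type u} [Field K] {n : ℕ}

local notation "R" => MvPolynomial (Fin (n + 1)) K

/-- additivity of the multiplicities of linked ideals at a minimal prime of the linking ideal -/
theorem mult_add (𝔠 I : Ideal R) [hG : LocCoh.IsGorensteinRing (R ⧸ 𝔠)]
    (h𝔠I : 𝔠 ≤ I) (q : Ideal R) (hq : q ∈ 𝔠.minimalPrimes) :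
    mult I q + mult (𝔠.colon (I : Set R)) q = mult 𝔠 q := by
  haveI hqp : q.IsPrime := hq.1.1
  obtain ⟨h1, h2⟩ := length_localized_add 𝔠 I h𝔠I q hq
  rw [mult_eq, mult_eq, mult_eq, ← h1]
  rw [← h1] at h2
  have ha : Module.length (Localization.AtPrime q) (LocalizedModule q.primeCompl (R ⧸ I)) ≠ ⊤ :=
    fun h => h2 (by rw [h, top_add])
  have hb : Module.length (Localization.AtPrime q)
      (LocalizedModule q.primeCompl (R ⧸ 𝔠.colon (I : Set R))) ≠ ⊤ :=
    fun h => h2 (by rw [h, add_top])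
  rw [ENat.toNat_add ha hb]

end Poly

end Groth.Agent.H81.HilbDeg
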