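import Mathlib
import Groth.Agent.H81.HilbDeg.Assoc

/-!
# The coefficient of `t^(n-c)` of the Hilbert polynomial through a set of height `c` primes
-/

set_option autoImplicit false

namespace Groth.Agent.H81.HilbDeg

universe u

open Module Polynomial Groth.Agent.H54

section

variable {K : Type u} [Field K] {n : ℕ}

local notation "𝒜" => CohB1.polyGrading n K
local notation "R" => MvPolynomial (Fin (n + 1)) K

/-- Let `S` be a finite set of homogeneous primes of height `c ≤ n` and `𝔞` a homogeneous ideal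
such that every prime containing `𝔞` contains a member of `S`. Then `(n-c)!` times the coefficient
of `t^(n-c)` of the Hilbert polynomial of `R/𝔞` is the sum over `q ∈ S` of `deg q` times the length
of `(R/𝔞)_q`. -/
theorem coeff_formula (c : ℕ) (hcn : c ≤ n) (S : Finset (Ideal R))
    (hS : ∀ q ∈ S, q.IsPrime ∧ q.IsHomogeneous 𝒜 ∧ q.height = (c : ℕ∞))
    (𝔞 : Ideal R) (h𝔞 : 𝔞.IsHomogeneous 𝒜)
    (hcover : ∀ p : Ideal R, p.IsPrime → 𝔞 ≤ p → ∃ q ∈ S, q ≤ p)
    (P : ℚ[X]) (hP : IsHilbPoly K n 𝔞 P) :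
    ((n - c).factorial : ℚ) * P.coeff (n - c) =
      ∑ q ∈ S, ((n - c).factorial : ℚ) * (hilbPoly K n q).leadingCoeff * mult 𝔞 q := by
  classical
  -- facts about `S`
  have F1 : ∀ q ∈ S, hilbPoly K n q ≠ 0 ∧ (hilbPoly K n q).natDegree = n - c := by
    intro q hq
    obtain ⟨hqp, hqh, hqc⟩ := hS q hq
    haveI := hqp
    exact hilbPoly_of_height_eq q hqh c hcn hqc _ (isHilbPoly_hilbPoly q hqh)
  -- primes of `S` comparable are equal
  have Seq : ∀ q ∈ S, ∀ q' ∈ S, q' ≤ q → q' = q := by
    intro q hq q' hq' hle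
    by_contra hne
    obtain ⟨hqp, -, hqc⟩ := hS q hq
    obtain ⟨hqp', -, hqc'⟩ := hS q' hq'
    haveI := hqp
    haveI := hqp'
    have hlt : q' < q := lt_of_le_of_ne hle hne
    have := Ideal.height_strict_mono_of_isPrime hlt
    rw [hqc, hqc'] at this
    exact lt_irrefl _ this
  have F3 : ∀ q ∈ S, 𝔞 ≤ q → q ∈ 𝔞.minimalPrimes := by
    intro q hq hle
    obtain ⟨hqp, -, -⟩ := hS q hq
    refine ⟨⟨hqp, hle⟩, ?_⟩
    rintro p' ⟨hp', hap'⟩ hp'q
    obtain ⟨q', hq', hq'p'⟩ := hcover p' hp' hap'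
    have := Seq q hq q' hq' (hq'p'.trans hp'q)
    rw [← this]
    exact hq'p'
  -- minimal primes of `𝔞` outside `S` contribute nothing
  have F2 : ∀ p ∈ 𝔞.minimalPrimes, p ∉ S →
      (hilbPoly K n p).leadingCoeff = 0 ∨ (hilbPoly K n p).natDegree < n - c := by
    intro p hp hpS
    haveI hpp : p.IsPrime := hp.1.1
    have hph : p.IsHomogeneous 𝒜 := isHomogeneous_of_mem_minimalPrimes 𝒜 h𝔞 hp
    by_cases h0 : hilbPoly K n p = 0
    · left
      rw [h0, leadingCoeff_zero]
    · right
      obtain ⟨h, hh, hsum⟩ := natDegree_add_height p hph _ (isHilbPoly_hilbPoly p hph) h0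
      obtain ⟨q, hq, hqp⟩ := hcover p hpp hp.1.2
      obtain ⟨hqp', -, hqc⟩ := hS q hq
      haveI := hqp'
      have hne : q ≠ p := fun e => hpS (e ▸ hq)
      have hlt : q < p := lt_of_le_of_ne hqp hne
      have := Ideal.height_strict_mono_of_isPrime hlt
      rw [hqc, hh] at this
      have : c < h := by exact_mod_cast this
      omega
  by_cases hP0 : P = 0
  · subst hP0
    rw [coeff_zero, mul_zero]
    symm
    apply Finset.sum_eq_zero
    intro q hq
    obtain ⟨hqp, hqh, -⟩ := hS q hq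
    haveI := hqp
    have : ¬ 𝔞 ≤ q := by
      intro hle
      exact (F1 q hq).1 (hP.eq_zero_of_le (isHilbPoly_hilbPoly q hqh) hle)
    rw [mult_eq_zero_of_not_le 𝔞 q this, Nat.cast_zero, mul_zero]
  have hform := assoc_formula 𝔞 h𝔞 P hP
  set t := P.natDegree with ht
  rcases lt_trichotomy t (n - c) with hlt | heq | hgt
  · -- `t < n - c`
    rw [coeff_eq_zero_of_natDegree_lt hlt, mul_zero]
    symm
    apply Finset.sum_eq_zero
    intro q hq
    obtain ⟨hqp, hqh, -⟩ := hS q hq
    haveI := hqp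
    have : ¬ 𝔞 ≤ q := by
      intro hle
      have d1 := ringKrullDim_eq_natDegree_hilbertPoly_add_one K n 𝔞 h𝔞 P hP0 hP
      have d2 := ringKrullDim_eq_natDegree_hilbertPoly_add_one K n q hqh _ (F1 q hq).1
        (isHilbPoly_hilbPoly q hqh)
      have d3 := ringKrullDim_le_of_surjective (Ideal.Quotient.factor hle)
        (Ideal.Quotient.factor_surjective hle)
      rw [d1, d2, (F1 q hq).2, ← ht] at d3
      have : n - c + 1 ≤ t + 1 := by exact_mod_cast d3
      omega
    rw [mult_eq_zero_of_not_le 𝔞 q this, Nat.cast_zero, mul_zero]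
  · -- `t = n - c`
    rw [← heq, ht, coeff_natDegree, ← ht, hform]
    have e1 : ∑ p ∈ minFinset K n 𝔞, (if (hilbPoly K n p).natDegree = t then
        ((hilbPoly K n p).natDegree.factorial : ℚ) * (hilbPoly K n p).leadingCoeff * mult 𝔞 p
        else 0) = ∑ p ∈ minFinset K n 𝔞 ∩ S, (if (hilbPoly K n p).natDegree = t then
        ((hilbPoly K n p).natDegree.factorial : ℚ) * (hilbPoly K n p).leadingCoeff * mult 𝔞 p
        else 0) := by
      symm
      apply Finset.sum_subset Finset.inter_subset_left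
      intro p hp hpn
      have hpS : p ∉ S := fun h => hpn (Finset.mem_inter.mpr ⟨hp, h⟩)
      rcases F2 p ((mem_minFinset 𝔞 p).mp hp) hpS with h | h
      · rw [h]
        simp
      · rw [if_neg (by omega)]
    have e2 : ∑ q ∈ S, ((t.factorial : ℚ) * (hilbPoly K n q).leadingCoeff * mult 𝔞 q) =
        ∑ q ∈ minFinset K n 𝔞 ∩ S, ((t.factorial : ℚ) * (hilbPoly K n q).leadingCoeff *
          mult 𝔞 q) := by
      symm
      apply Finset.sum_subset Finset.inter_subset_right
      intro q hq hqn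
      obtain ⟨hqp, -, -⟩ := hS q hq
      haveI := hqp
      have : ¬ 𝔞 ≤ q := by
        intro hle
        exact hqn (Finset.mem_inter.mpr ⟨(mem_minFinset 𝔞 q).mpr (F3 q hq hle), hq⟩)
      rw [mult_eq_zero_of_not_le 𝔞 q this, Nat.cast_zero, mul_zero]
    rw [e1, e2]
    apply Finset.sum_congr rfl
    intro p hp
    have hpS := (Finset.mem_inter.mp hp).2
    rw [if_pos (by rw [(F1 p hpS).2, heq]), (F1 p hpS).2, heq]
  · -- `t > n - c`: impossible
    exfalso
    have hz : ∑ p ∈ minFinset K n 𝔞, (if (hilbPoly K n p).natDegree = t then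
        ((hilbPoly K n p).natDegree.factorial : ℚ) * (hilbPoly K n p).leadingCoeff * mult 𝔞 p
        else 0) = 0 := by
      apply Finset.sum_eq_zero
      intro p hp
      by_cases hpS : p ∈ S
      · rw [if_neg (by rw [(F1 p hpS).2]; omega)]
      · rcases F2 p ((mem_minFinset 𝔞 p).mp hp) hpS with h | h
        · rw [h]
          simp
        · rw [if_neg (by omega)]
    rw [hz] at hform
    have h1 : (t.factorial : ℚ) ≠ 0 := by exact_mod_cast Nat.factorial_ne_zero t
    have h2 : P.leadingCoeff = 0 := by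
      rcases mul_eq_zero.mp hform with h | h
      · exact absurd h h1
      · exact h
    exact hP0 (leadingCoeff_eq_zero.mp h2)

end

end Groth.Agent.H81.HilbDeg
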